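import Cfsg.Agent.H139.BlockCount
import Mathlib.NumberTheory.Multiplicity
import Mathlib.NumberTheory.Padics.PadicVal.Basic

/-!
# S4933, row `PSL_n(q)`, `p ∣ q - 1` (helper614): the numbers

* `val_index` : the exponent of `p` in the index of a parabolic subgroup of `GL_n(q)`, `p ∣ q - 1`, `p` odd;
* `exists_xyz`, `exists_xyz'` : a composition of `n` into at most three parts, with labels, such that this exponent is `1`;
* `shift` : the labels are not shift invariant.
-/

set_option autoImplicit false
set_option linter.unusedSectionVars false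

namespace Cfsg.Agent.H614.HE

open scoped MatrixGroups Nat
open Matrix Finset Cfsg Cfsg.Agent.H139.BlockCount

variable {p : ℕ} [hp : Fact p.Prime]

theorem val_sum (hp2 : p ≠ 2) {q : ℕ} (hq : 1 < q) (hpq : p ∣ q - 1) {m : ℕ} (hm : m ≠ 0) :
    padicValNat p (∑ l ∈ range m, q ^ l) = padicValNat p m := by
  have h1 : (∑ l ∈ range m, q ^ l) * (q - 1) = q ^ m - 1 := by
    have := Nat.geomSum_eq (m := q) (by omega) m
    rw [this, Nat.div_mul_cancel]
    simpa using Nat.sub_dvd_pow_sub_pow q 1 m
  have h2 : ¬ p ∣ q := by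
    intro h
    have h3 := (Nat.dvd_sub h hpq)
    rw [Nat.sub_sub_self hq.le] at h3
    exact hp.out.one_lt.ne' (Nat.dvd_one.1 h3)
  have h3 := padicValNat.pow_sub_pow (p := p) (hp.out.odd_of_ne_two hp2) (x := q) (y := 1) hq hpq h2 hm
  rw [one_pow, ← h1, padicValNat.mul _ (by omega)] at h3
  · omega
  · intro h
    rw [h, zero_mul] at h1
    have : 1 < q ^ m := Nat.one_lt_pow hm hq
    omega

theorem sum_ne_zero' {q m : ℕ} (hq : 1 < q) : ∑ l ∈ range (m + 1), q ^ l ≠ 0 := by
  have h : q ^ 0 ≤ ∑ l ∈ range (m + 1), q ^ l :=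
    Finset.single_le_sum (f := fun l => q ^ l) (fun _ _ => Nat.zero_le _) (Finset.mem_range.2 (Nat.succ_pos m))
  rw [pow_zero] at h
  omega

theorem val_prod (hp2 : p ≠ 2) {q : ℕ} (hq : 1 < q) (hpq : p ∣ q - 1) (m : ℕ) :
    padicValNat p (∏ j ∈ range m, ∑ l ∈ range (j + 1), q ^ l) = padicValNat p m ! := by
  induction m with
  | zero => simp
  | succ m ih =>
    rw [Finset.prod_range_succ, padicValNat.mul (Finset.prod_ne_zero_iff.2 fun j _ => sum_ne_zero' hq) (sum_ne_zero' hq), ih,
      val_sum hp2 hq hpq (Nat.succ_ne_zero m), Nat.factorial_succ,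
      padicValNat.mul (Nat.succ_ne_zero m) (Nat.factorial_ne_zero m), add_comm]

theorem val_prod' (hp2 : p ≠ 2) {q : ℕ} (hq : 1 < q) (hpq : p ∣ q - 1) {ι : Type*} (s : Finset ι) (μ : ι → ℕ) :
    padicValNat p (∏ i ∈ s, ∏ j ∈ range (μ i), ∑ l ∈ range (j + 1), q ^ l) = ∑ i ∈ s, padicValNat p (μ i)! := by
  classical
  induction s using Finset.induction_on with
  | empty => simp
  | insert i s hi ih =>
    rw [Finset.prod_insert hi, Finset.sum_insert hi, padicValNat.mul, ih, val_prod hp2 hq hpq]
    · exact Finset.prod_ne_zero_iff.2 fun j _ => sum_ne_zero' hq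
    · exact Finset.prod_ne_zero_iff.2 fun i _ => Finset.prod_ne_zero_iff.2 fun j _ => sum_ne_zero' hq

/-- the exponent of `p` in the index -/
theorem val_index {F : Type*} [Field F] [Finite F] (hp2 : p ≠ 2) (hpq : p ∣ Nat.card F - 1) {n : ℕ} (a : Fin n → ℕ)
    (ha : ∑ i, a i = n) :
    padicValNat p (parabolicGL n F a).index + ∑ i, padicValNat p (a i)! = padicValNat p n ! := by
  have := Fintype.ofFinite F
  have hq : 1 < Nat.card F := by rw [Nat.card_eq_fintype_card]; exact Fintype.one_lt_card
  have h1 := index_parabolicGL (F := F) (q := Nat.card F) Nat.card_eq_fintype_card.symm a ha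
  have h2 := congrArg (padicValNat p) h1
  rw [padicValNat.mul, val_prod' hp2 hq hpq, val_prod hp2 hq hpq] at h2
  · exact h2
  · exact Nat.card_pos.ne'
  · exact Finset.prod_ne_zero_iff.2 fun i _ => Finset.prod_ne_zero_iff.2 fun j _ => sum_ne_zero' hq

/-- the composition `(x, y, z)` -/
def cmp (n x y z : ℕ) (i : Fin n) : ℕ := if i.1 = 0 then x else if i.1 = 1 then y else if i.1 = 2 then z else 0

theorem sum_cmp {n x y z : ℕ} (hn : 3 ≤ n) {A : Type*} [AddCommMonoid A] (f : ℕ → ℕ → A) (hf : ∀ k, f k 0 = 0) :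
    ∑ i : Fin n, f i.1 (cmp n x y z i) = f 0 x + f 1 y + f 2 z := by
  obtain ⟨m, rfl⟩ : ∃ m, n = m + 3 := ⟨n - 3, by omega⟩
  rw [Fin.sum_univ_succ, Fin.sum_univ_succ, Fin.sum_univ_succ, Finset.sum_eq_zero, add_zero]
  · have h2 : 2 % (m + 3) = 2 := Nat.mod_eq_of_lt (by omega)
    simp [cmp, add_assoc, h2]
  · intro i _
    rw [← hf (i.succ.succ.succ : Fin (m + 3)).1]
    simp [cmp]

theorem sum_label {n : ℕ} (a : Fin n → ℕ) (ha : ∑ i, a i = n) (l : ℕ → ℕ) :
    ∑ i, l (compLabel a i) = ∑ k : Fin n, l k.1 * a k := by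
  have h1 : ∀ i ∈ (Finset.univ : Finset (Fin n)), lab a ha i ∈ (Finset.univ : Finset (Fin n)) := fun _ _ => Finset.mem_univ _
  rw [← Finset.sum_fiberwise_of_maps_to h1]
  refine Finset.sum_congr rfl fun k _ => ?_
  have h2 : ∀ i ∈ Finset.univ.filter (fun i => lab a ha i = k), l (compLabel a i) = l k.1 := by
    intro i hi
    rw [← (Finset.mem_filter.1 hi).2]
    rfl
  rw [Finset.sum_congr rfl h2, Finset.sum_const, smul_eq_mul, mul_comm]
  congr 1
  rw [← card_label_eq a ha k]
  congr 1
  ext i
  simp only [Finset.mem_filter, Finset.mem_univ, true_and, lab, Fin.ext_iff]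

/-- the labels are not shift invariant -/
theorem shift {X : Type*} [Fintype X] [DecidableEq X] (f : X → ZMod p) (w : Equiv.Perm X)
    (h : ∀ i j, f i + f (w j) = f j + f (w i)) (u v : ZMod p)
    (huv : (univ.filter fun i => f i = u).card ≠ (univ.filter fun i => f i = v).card) : ∀ i, f (w i) = f i := by
  intro i
  by_contra hi
  let c := f (w i) - f i
  have hc : c ≠ 0 := sub_ne_zero.2 hi
  have h1 : ∀ j, f (w j) = f j + c := by
    intro j
    have := h i j
    change _ = f j + (f (w i) - f i)
    linear_combination this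
  have h2 : ∀ t : ZMod p, (univ.filter fun i => f i = t + c).card = (univ.filter fun i => f i = t).card := by
    intro t
    have h4 : (univ.filter fun i => f i = t + c) = (univ.filter fun i => f i = t).map w.toEmbedding := by
      ext j
      simp only [Finset.mem_filter, Finset.mem_univ, true_and, Finset.mem_map, Equiv.coe_toEmbedding]
      constructor
      · intro hj
        refine ⟨w.symm j, ?_, w.apply_symm_apply j⟩
        have h5 := h1 (w.symm j)
        rw [w.apply_symm_apply, hj] at h5
        exact (add_right_cancel h5).symm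
      · rintro ⟨k, hk, rfl⟩
        rw [h1, hk]
    rw [h4, Finset.card_map]
  have h3 : ∀ (t : ZMod p) (k : ℕ), (univ.filter fun i => f i = t + k * c).card = (univ.filter fun i => f i = t).card := by
    intro t k
    induction k with
    | zero => simp
    | succ k ih =>
      rw [← ih, ← h2 (t + k * c)]
      congr 1
      ext j
      simp only [Finset.mem_filter, Finset.mem_univ, true_and]
      push_cast
      rw [show t + (k + 1) * c = t + k * c + c by ring]
  apply huv
  rw [← h3 u ((v - u) / c).val, ZMod.natCast_val, ZMod.cast_id', id, div_mul_cancel₀ _ hc, add_sub_cancel]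

/-- the compositions -/
theorem pre_num (n : ℕ) : p ≤ n → (∃ k ≤ n, padicValNat p n ! = padicValNat p k ! + padicValNat p (n - k)! + 1) ∨
    (n % p = p - 1 ∧ ¬ p ∣ n / p) := by
  induction n using Nat.strong_induction_on with
  | _ n ih =>
  intro hn
  have hp1 := hp.out.one_lt
  obtain ⟨m, r, hr, rfl⟩ : ∃ m r, r < p ∧ n = p * m + r := ⟨n / p, n % p, Nat.mod_lt _ hp.out.pos, (Nat.div_add_mod n p).symm⟩
  have hm : 1 ≤ m := by
    by_contra h
    obtain rfl : m = 0 := by omega
    omega
  have hdiv : (p * m + r) / p = m := by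
    rw [Nat.mul_add_div hp.out.pos, Nat.div_eq_of_lt hr, add_zero]
  have hmod : (p * m + r) % p = r := by rw [Nat.mul_add_mod, Nat.mod_eq_of_lt hr]
  rw [hdiv, hmod]
  by_cases hpm : p ∣ m
  · left
    have hlt : m < p * m + r := by nlinarith
    rcases ih m hlt (Nat.le_of_dvd (by omega) hpm) with ⟨k, hk, e⟩ | ⟨h, -⟩
    · refine ⟨p * k, by nlinarith, ?_⟩
      have h1 : p * m + r - p * k = p * (m - k) + r := by
        obtain ⟨d, rfl⟩ := Nat.exists_eq_add_of_le hk
        rw [Nat.add_sub_cancel_left, mul_add]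
        omega
      rw [h1, padicValNat_factorial_mul_add _ hr, padicValNat_factorial_mul_add _ hr, padicValNat_factorial_mul,
        padicValNat_factorial_mul, padicValNat_factorial_mul, e]
      omega
    · rw [Nat.dvd_iff_mod_eq_zero.1 hpm] at h
      omega
  · by_cases hr' : r = p - 1
    · exact Or.inr ⟨hr', hpm⟩
    · left
      refine ⟨r + 1, by nlinarith, ?_⟩
      obtain ⟨d, rfl⟩ : ∃ d, m = d + 1 := ⟨m - 1, by omega⟩
      have h1 : p * (d + 1) + r - (r + 1) = p * d + (p - 1) := by
        rw [mul_add, mul_one]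
        omega
      have h2 : padicValNat p (r + 1)! = 0 := by
        apply padicValNat.eq_zero_of_not_dvd
        rw [hp.out.dvd_factorial]
        omega
      have h3 : padicValNat p (d + 1) = 0 := padicValNat.eq_zero_of_not_dvd hpm
      rw [h1, h2, padicValNat_factorial_mul_add _ hr, padicValNat_factorial_mul_add _ (by omega : p - 1 < p),
        padicValNat_factorial_mul, padicValNat_factorial_mul, Nat.factorial_succ,
        padicValNat.mul (Nat.succ_ne_zero d) (Nat.factorial_ne_zero d), h3]
      omega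

theorem exists_shift {n : ℕ} (hn : ¬ p ∣ n) (s : ℕ) : ∃ j : ℕ, p ∣ j * n + s := by
  refine ⟨(-(s : ZMod p) / n).val, ?_⟩
  rw [← ZMod.natCast_eq_zero_iff]
  push_cast
  have h : (n : ZMod p) ≠ 0 := by rwa [Ne, ZMod.natCast_eq_zero_iff]
  rw [ZMod.natCast_val, ZMod.cast_id', id, div_mul_cancel₀ _ h, neg_add_cancel]

/-- the composition and the labels -/
theorem exists_xyz (hp2 : p ≠ 2) {n : ℕ} (hn : p ≤ n) (h33 : ¬ (p = 3 ∧ n = 3)) :
    ∃ x y z a b c : ℕ, x + y + z = n ∧ y ≠ z ∧ (a : ZMod p) ≠ b ∧ (a : ZMod p) ≠ c ∧ (b : ZMod p) ≠ c ∧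
      p ∣ a * x + b * y + c * z ∧
      padicValNat p n ! = padicValNat p x ! + padicValNat p y ! + padicValNat p z ! + 1 := by
  have hp3 : 3 ≤ p := by
    have := hp.out.two_le
    omega
  have hne : ∀ a b : ℕ, a < p → b < p → a ≠ b → ∀ j : ℕ, ((a + j : ℕ) : ZMod p) ≠ ((b + j : ℕ) : ZMod p) := by
    intro a b ha hb hab j h
    push_cast at h
    have h1 := add_right_cancel h
    rw [ZMod.natCast_eq_natCast_iff'] at h1
    rw [Nat.mod_eq_of_lt ha, Nat.mod_eq_of_lt hb] at h1
    exact hab h1
  by_cases hpn : p ∣ n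
  · obtain ⟨m, rfl⟩ := hpn
    have hm : 1 ≤ m := by
      by_contra h
      obtain rfl : m = 0 := by omega
      omega
    by_cases hpm : p ∣ m
    · rcases pre_num (p := p) m (Nat.le_of_dvd (by omega) hpm) with ⟨k, hk, e⟩ | ⟨h, -⟩
      · obtain ⟨d, rfl⟩ := Nat.exists_eq_add_of_le hk
        rw [Nat.add_sub_cancel_left] at e
        have hd : d ≠ 0 := by
          rintro rfl
          rw [add_zero] at e
          omega
        refine ⟨p * k, p * d, 0, 0, 1, 2, by ring, by positivity, ?_, ?_, ?_, ⟨d, by ring⟩, ?_⟩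
        · exact hne 0 1 (by omega) (by omega) (by omega) 0
        · exact hne 0 2 (by omega) (by omega) (by omega) 0
        · exact hne 1 2 (by omega) (by omega) (by omega) 0
        · rw [padicValNat_factorial_mul, padicValNat_factorial_mul, padicValNat_factorial_mul, e]
          simp
          omega
      · rw [Nat.dvd_iff_mod_eq_zero.1 hpm] at h
        omega
    · have hn3 : p * m ≠ 3 := by
        intro h
        apply h33
        have h1 : p ≤ 3 := by
          rw [← h]
          nlinarith
        have h2 : p = 3 := by omega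
        subst h2
        exact ⟨rfl, h⟩
      obtain ⟨d, hd⟩ : ∃ d, p * m = d + 2 := ⟨p * m - 2, by nlinarith [Nat.mul_le_mul hp3 hm, Nat.sub_add_cancel (show 2 ≤ p * m by nlinarith)]⟩
      refine ⟨1, d, 1, 1, 0, p - 1, by omega, by omega, ?_, ?_, ?_, ⟨1, by omega⟩, ?_⟩
      · exact hne 1 0 (by omega) (by omega) (by omega) 0
      · exact hne 1 (p - 1) (by omega) (by omega) (by omega) 0
      · exact hne 0 (p - 1) (by omega) (by omega) (by omega) 0
      · have h1 : ¬ p ∣ d + 1 := by
          intro h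
          have h2 : p ∣ (d + 2) - (d + 1) := Nat.dvd_sub (hd ▸ dvd_mul_right p m) h
          rw [show d + 2 - (d + 1) = 1 by omega] at h2
          exact absurd (Nat.dvd_one.1 h2) (by omega)
        have h3 : padicValNat p (d + 2) = 1 := by
          rw [← hd, padicValNat.mul (by omega) (by omega), padicValNat_self, padicValNat.eq_zero_of_not_dvd hpm]
        rw [hd, Nat.factorial_succ, Nat.factorial_succ, padicValNat.mul (by omega) (by positivity),
          padicValNat.mul (by omega) (by positivity), h3, padicValNat.eq_zero_of_not_dvd h1]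
        simp
        omega
  · rcases pre_num (p := p) n hn with ⟨k, hk, e⟩ | ⟨h1, h2⟩
    · obtain ⟨d, rfl⟩ := Nat.exists_eq_add_of_le hk
      rw [Nat.add_sub_cancel_left] at e
      have hd : d ≠ 0 := by
        rintro rfl
        rw [add_zero] at e
        omega
      obtain ⟨j, hj⟩ := exists_shift hpn d
      refine ⟨k, d, 0, 0 + j, 1 + j, 2 + j, by ring, hd, ?_, ?_, ?_, ?_, ?_⟩
      · exact hne 0 1 (by omega) (by omega) (by omega) j
      · exact hne 0 2 (by omega) (by omega) (by omega) j
      · exact hne 1 2 (by omega) (by omega) (by omega) j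
      · obtain ⟨t, ht⟩ := hj
        exact ⟨t, by rw [← ht]; ring⟩
      · rw [e]
        simp
    · obtain ⟨m, hm⟩ : ∃ m, n = p * m + (p - 1) := ⟨n / p, by rw [← h1]; exact (Nat.div_add_mod n p).symm⟩
      have hdiv : n / p = m := by
        rw [hm, Nat.mul_add_div hp.out.pos, Nat.div_eq_of_lt (by omega), add_zero]
      rw [hdiv] at h2
      obtain ⟨d, rfl⟩ : ∃ d, m = d + 1 := ⟨m - 1, by
        have : m ≠ 0 := by rintro rfl; exact h2 (dvd_zero p)
        omega⟩
      obtain ⟨j, hj⟩ := exists_shift hpn ((p - 1) + 2)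
      refine ⟨p * d + (p - 1), p - 1, 1, 0 + j, 1 + j, 2 + j, ?_, by omega, ?_, ?_, ?_, ?_, ?_⟩
      · rw [hm, mul_add, mul_one]
        omega
      · exact hne 0 1 (by omega) (by omega) (by omega) j
      · exact hne 0 2 (by omega) (by omega) (by omega) j
      · exact hne 1 2 (by omega) (by omega) (by omega) j
      · obtain ⟨t, ht⟩ := hj
        refine ⟨t, ?_⟩
        rw [← ht, hm]
        obtain ⟨s, hs⟩ : ∃ s, p = s + 1 := ⟨p - 1, by omega⟩
        rw [hs, Nat.add_sub_cancel]
        ring
      · have h3 : padicValNat p (p - 1)! = 0 := by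
          apply padicValNat.eq_zero_of_not_dvd
          rw [hp.out.dvd_factorial]
          omega
        rw [hm, padicValNat_factorial_mul_add _ (by omega : p - 1 < p), padicValNat_factorial_mul_add _ (by omega : p - 1 < p),
          padicValNat_factorial_mul, padicValNat_factorial_mul, Nat.factorial_succ,
          padicValNat.mul (Nat.succ_ne_zero d) (Nat.factorial_ne_zero d), padicValNat.eq_zero_of_not_dvd h2, h3]
        simp
        omega

end Cfsg.Agent.H614.HE
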